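import Mathlib

/-! # S5755: supplemented two-point stabilisers -- definitions and elementary criteria -/

set_option autoImplicit false

namespace Cfsg.Agent.SP

/-- `(A, B)` is a pair for the inner automorphisms of `T`. -/
def IsPair {T : Type*} [Group T] (A B : Subgroup T) : Prop :=
  A ≠ ⊤ ∧ B < A ∧ (B.subgroupOf A).Normal ∧
    ∀ t : T, B ⊔ (A ⊓ A.map (MulAut.conj t).toMonoidHom) = A

/-- `(A, B)` is a pair for all automorphisms of `T`. -/
def IsPairAut {T : Type*} [Group T] (A B : Subgroup T) : Prop :=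
  A ≠ ⊤ ∧ B < A ∧ (B.subgroupOf A).Normal ∧
    ∀ τ : MulAut T, B ⊔ (A ⊓ A.map τ.toMonoidHom) = A

/-- Condition (ii) of S5755. -/
def Pair (T : Type*) [Group T] : Prop := ∃ A B : Subgroup T, IsPair A B

/-- Condition (i) of S5755. -/
def PairAut (T : Type*) [Group T] : Prop := ∃ A B : Subgroup T, IsPairAut A B

variable {T : Type*} [Group T]

theorem IsPairAut.isPair {A B : Subgroup T} (h : IsPairAut A B) : IsPair A B :=
  ⟨h.1, h.2.1, h.2.2.1, fun t => h.2.2.2 (MulAut.conj t)⟩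

theorem PairAut.pair (h : PairAut T) : Pair T :=
  let ⟨A, B, h⟩ := h; ⟨A, B, h.isPair⟩

theorem mem_map_aut {A : Subgroup T} {τ : MulAut T} {x : T} :
    x ∈ A.map τ.toMonoidHom ↔ τ.symm x ∈ A := by
  constructor
  · rintro ⟨y, hy, rfl⟩; simpa using hy
  · intro h; exact ⟨τ.symm x, h, by simp⟩

theorem mem_map_conj {A : Subgroup T} {t x : T} :
    x ∈ A.map (MulAut.conj t).toMonoidHom ↔ t⁻¹ * x * t ∈ A := by
  rw [mem_map_aut]; simp [MulAut.conj_symm_apply]

theorem normal_subgroupOf_iff' {A B : Subgroup T} (hBA : B ≤ A) :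
    (B.subgroupOf A).Normal ↔ ∀ a ∈ A, ∀ b ∈ B, a * b * a⁻¹ ∈ B := by
  constructor
  · intro h a ha b hb
    have := h.conj_mem ⟨b, hBA hb⟩ (by simpa [Subgroup.mem_subgroupOf] using hb) ⟨a, ha⟩
    simpa [Subgroup.mem_subgroupOf] using this
  · intro h
    refine ⟨fun b hb a => ?_⟩
    have := h a a.2 b (by simpa [Subgroup.mem_subgroupOf] using hb)
    simpa [Subgroup.mem_subgroupOf] using this

/-- With `B ⊴ A`, `D ≤ A`: `B ⊔ D = A` iff every element of `A` is a product `b * d`. -/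
theorem sup_eq_iff_mul {A B D : Subgroup T} (hBA : B ≤ A) (hn : (B.subgroupOf A).Normal)
    (hD : D ≤ A) : B ⊔ D = A ↔ ∀ a ∈ A, ∃ b ∈ B, ∃ d ∈ D, a = b * d := by
  rw [normal_subgroupOf_iff' hBA] at hn
  constructor
  · intro h a ha
    rw [← h, Subgroup.sup_eq_closure] at ha
    induction ha using Subgroup.closure_induction with
    | mem x hx =>
      rcases hx with hx | hx
      · exact ⟨x, hx, 1, D.one_mem, by simp⟩
      · exact ⟨1, B.one_mem, x, hx, by simp⟩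
    | one => exact ⟨1, B.one_mem, 1, D.one_mem, by simp⟩
    | mul x y _ _ hx hy =>
      obtain ⟨b, hb, d, hd, rfl⟩ := hx
      obtain ⟨b', hb', d', hd', rfl⟩ := hy
      exact ⟨b * (d * b' * d⁻¹), B.mul_mem hb (hn d (hD hd) b' hb'), d * d', D.mul_mem hd hd',
        by group⟩
    | inv x _ hx =>
      obtain ⟨b, hb, d, hd, rfl⟩ := hx
      refine ⟨d⁻¹ * b⁻¹ * d⁻¹⁻¹, hn d⁻¹ (hD (D.inv_mem hd)) b⁻¹ (B.inv_mem hb), d⁻¹, D.inv_mem hd,
        by group⟩
  · intro h
    refine le_antisymm (sup_le hBA hD) fun a ha => ?_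
    obtain ⟨b, hb, d, hd, rfl⟩ := h a ha
    exact Subgroup.mul_mem_sup hb hd

section Equiv
variable {T' : Type*} [Group T']

theorem IsPairAut.map {A B : Subgroup T} (h : IsPairAut A B) (e : T ≃* T') :
    IsPairAut (A.map e.toMonoidHom) (B.map e.toMonoidHom) := by
  obtain ⟨h1, h2, h3, h4⟩ := h
  have hinj : Function.Injective e.toMonoidHom := e.injective
  have hmem : ∀ (K : Subgroup T) (x : T'), x ∈ K.map e.toMonoidHom ↔ e.symm x ∈ K := by
    intro K x
    constructor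
    · rintro ⟨y, hy, rfl⟩; simpa using hy
    · intro h; exact ⟨e.symm x, h, by simp⟩
  refine ⟨fun h => h1 ?_, ?_, ?_, fun τ => ?_⟩
  · rw [eq_top_iff]; intro x _
    have : e x ∈ A.map e.toMonoidHom := h ▸ Subgroup.mem_top _
    simpa [hmem] using this
  · exact (Subgroup.map_lt_map_iff_of_injective hinj).2 h2
  · rw [normal_subgroupOf_iff' (Subgroup.map_mono h2.le)]
    rw [normal_subgroupOf_iff' h2.le] at h3
    intro a ha b hb
    rw [hmem] at *
    simpa using h3 _ ha _ hb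
  · have := congrArg (Subgroup.map e.toMonoidHom) (h4 (e.trans (τ.trans e.symm)))
    rw [Subgroup.map_sup, Subgroup.map_inf _ _ _ hinj] at this
    convert this using 3
    ext x
    rw [mem_map_aut, hmem, hmem, mem_map_aut]
    simp

theorem IsPair.map {A B : Subgroup T} (h : IsPair A B) (e : T ≃* T') :
    IsPair (A.map e.toMonoidHom) (B.map e.toMonoidHom) := by
  obtain ⟨h1, h2, h3, h4⟩ := h
  have hinj : Function.Injective e.toMonoidHom := e.injective
  have hmem : ∀ (K : Subgroup T) (x : T'), x ∈ K.map e.toMonoidHom ↔ e.symm x ∈ K := by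
    intro K x
    constructor
    · rintro ⟨y, hy, rfl⟩; simpa using hy
    · intro h; exact ⟨e.symm x, h, by simp⟩
  refine ⟨fun h => h1 ?_, ?_, ?_, fun t => ?_⟩
  · rw [eq_top_iff]; intro x _
    have : e x ∈ A.map e.toMonoidHom := h ▸ Subgroup.mem_top _
    simpa [hmem] using this
  · exact (Subgroup.map_lt_map_iff_of_injective hinj).2 h2
  · rw [normal_subgroupOf_iff' (Subgroup.map_mono h2.le)]
    rw [normal_subgroupOf_iff' h2.le] at h3
    intro a ha b hb
    rw [hmem] at *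
    simpa using h3 _ ha _ hb
  · have := congrArg (Subgroup.map e.toMonoidHom) (h4 (e.symm t))
    rw [Subgroup.map_sup, Subgroup.map_inf _ _ _ hinj] at this
    convert this using 3
    ext x
    rw [mem_map_conj, hmem, hmem, mem_map_conj]
    simp

theorem PairAut.of_equiv (h : PairAut T) (e : T ≃* T') : PairAut T' :=
  let ⟨_, _, h⟩ := h; ⟨_, _, h.map e⟩

theorem Pair.of_equiv (h : Pair T) (e : T ≃* T') : Pair T' :=
  let ⟨_, _, h⟩ := h; ⟨_, _, h.map e⟩

end Equiv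

/-- If the `T`-class of `A` is invariant under `Aut T`, an inner pair is an automorphism pair. -/
theorem IsPair.isPairAut {A B : Subgroup T} (h : IsPair A B)
    (hA : ∀ τ : MulAut T, ∃ t : T, A.map τ.toMonoidHom = A.map (MulAut.conj t).toMonoidHom) :
    IsPairAut A B :=
  ⟨h.1, h.2.1, h.2.2.1, fun τ => by obtain ⟨t, ht⟩ := hA τ; rw [ht]; exact h.2.2.2 t⟩

/-- If every automorphism of `T` is inner, (ii) gives (i). -/
theorem Pair.pairAut (h : Pair T) (hT : ∀ τ : MulAut T, ∃ t : T, τ = MulAut.conj t) : PairAut T :=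
  let ⟨A, B, h⟩ := h
  ⟨A, B, h.isPairAut fun τ => let ⟨t, ht⟩ := hT τ; ⟨t, by rw [ht]⟩⟩

/-- `B` is a maximal subgroup of `A` (for instance of prime index) and `D ≤ A` is not inside `B`. -/
theorem sup_eq_of_maximal {A B D : Subgroup T} (hBA : B ≤ A)
    (hmax : ∀ K : Subgroup T, B ≤ K → K ≤ A → K = B ∨ K = A) (hD : D ≤ A) {x : T} (hx : x ∈ D)
    (hxB : x ∉ B) : B ⊔ D = A := by
  rcases hmax (B ⊔ D) le_sup_left (sup_le hBA hD) with h | h
  · exact absurd (h ▸ Subgroup.mem_sup_right hx) hxB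
  · exact h

/-- Index-two criterion: `B < A` with the product of two elements of `A \ B` in `B`. -/
theorem maximal_of_mul {A B : Subgroup T}
    (h2 : ∀ x ∈ A, ∀ y ∈ A, x ∉ B → y ∉ B → x * y ∈ B) :
    ∀ K : Subgroup T, B ≤ K → K ≤ A → K = B ∨ K = A := by
  intro K hBK hKA
  by_cases h : K ≤ B
  · exact Or.inl (le_antisymm h hBK)
  · right
    obtain ⟨x, hxK, hxB⟩ := SetLike.not_le_iff_exists.1 h
    refine le_antisymm hKA fun a ha => ?_
    by_cases haB : a ∈ B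
    · exact hBK haB
    · have := hBK (h2 a ha x (hKA hxK) haB hxB)
      simpa using K.mul_mem this (K.inv_mem hxK)

theorem normal_of_mul {A B : Subgroup T} (hBA : B ≤ A)
    (h2 : ∀ x ∈ A, ∀ y ∈ A, x ∉ B → y ∉ B → x * y ∈ B) : (B.subgroupOf A).Normal := by
  rw [normal_subgroupOf_iff' hBA]
  intro a ha b hb
  by_cases haB : a ∈ B
  · exact B.mul_mem (B.mul_mem haB hb) (B.inv_mem haB)
  · refine h2 (a * b) (A.mul_mem ha (hBA hb)) a⁻¹ (A.inv_mem ha) (fun h => haB ?_)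
      (fun h => haB (by simpa using h))
    simpa using B.mul_mem h (B.inv_mem hb)

/-- Index-two criterion for (ii). -/
theorem isPair_of_index_two {A B : Subgroup T} (hA : A ≠ ⊤) (hBA : B ≤ A)
    (h2 : ∀ x ∈ A, ∀ y ∈ A, x ∉ B → y ∉ B → x * y ∈ B)
    (h : ∀ t : T, ∃ x ∈ A, t⁻¹ * x * t ∈ A ∧ x ∉ B) : IsPair A B := by
  obtain ⟨x, hx, -, hxB⟩ := h 1
  refine ⟨hA, lt_of_le_of_ne hBA (fun e => hxB (e ▸ hx)), normal_of_mul hBA h2, fun t => ?_⟩
  obtain ⟨y, hy, hyt, hyB⟩ := h t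
  exact sup_eq_of_maximal hBA (maximal_of_mul h2) inf_le_left ⟨hy, mem_map_conj.2 hyt⟩ hyB

/-- Index-two criterion for (i). -/
theorem isPairAut_of_index_two {A B : Subgroup T} (hA : A ≠ ⊤) (hBA : B ≤ A)
    (h2 : ∀ x ∈ A, ∀ y ∈ A, x ∉ B → y ∉ B → x * y ∈ B)
    (h : ∀ τ : MulAut T, ∃ x ∈ A, τ x ∈ A ∧ x ∉ B) : IsPairAut A B := by
  obtain ⟨x, hx, -, hxB⟩ := h 1
  refine ⟨hA, lt_of_le_of_ne hBA (fun e => hxB (e ▸ hx)), normal_of_mul hBA h2, fun τ => ?_⟩
  obtain ⟨y, hy, hyt, hyB⟩ := h τ.symm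
  exact sup_eq_of_maximal hBA (maximal_of_mul h2) inf_le_left ⟨hy, mem_map_aut.2 hyt⟩ hyB

/-- Homomorphism criterion for (ii): `φ : A →* C` non-trivial, and every value of `φ` is taken on
each two-point stabiliser. -/
theorem isPair_of_hom {C : Type*} [Group C] {A : Subgroup T} (hA : A ≠ ⊤) (φ : A →* C)
    (hφ : ∃ a, φ a ≠ 1)
    (h : ∀ (t : T) (a : A), ∃ x : A, t⁻¹ * x * t ∈ A ∧ φ x = φ a) :
    IsPair A (φ.ker.map A.subtype) := by
  have hle : φ.ker.map A.subtype ≤ A := Subgroup.map_subtype_le _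
  have hn : ((φ.ker.map A.subtype).subgroupOf A).Normal := by
    rw [Subgroup.subgroupOf, Subgroup.comap_map_eq_self_of_injective A.subtype_injective]
    infer_instance
  refine ⟨hA, lt_of_le_of_ne hle fun e => ?_, hn, fun t => ?_⟩
  · obtain ⟨a, ha⟩ := hφ
    have : (a : T) ∈ φ.ker.map A.subtype := e.symm ▸ a.2
    obtain ⟨b, hb, hba⟩ := this
    exact ha (by rw [← Subtype.ext hba]; exact hb)
  · rw [sup_eq_iff_mul hle hn inf_le_left]
    intro a ha
    obtain ⟨x, hx, hxa⟩ := h t ⟨a, ha⟩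
    refine ⟨a * (x : T)⁻¹, ⟨⟨a, ha⟩ * x⁻¹, ?_, rfl⟩, x, ⟨x.2, mem_map_conj.2 hx⟩, by simp⟩
    simp [MonoidHom.mem_ker, hxa]

/-- Homomorphism criterion for (i). -/
theorem isPairAut_of_hom {C : Type*} [Group C] {A : Subgroup T} (hA : A ≠ ⊤) (φ : A →* C)
    (hφ : ∃ a, φ a ≠ 1)
    (h : ∀ (τ : MulAut T) (a : A), ∃ x : A, τ x ∈ A ∧ φ x = φ a) :
    IsPairAut A (φ.ker.map A.subtype) := by
  have hle : φ.ker.map A.subtype ≤ A := Subgroup.map_subtype_le _
  have hn : ((φ.ker.map A.subtype).subgroupOf A).Normal := by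
    rw [Subgroup.subgroupOf, Subgroup.comap_map_eq_self_of_injective A.subtype_injective]
    infer_instance
  refine ⟨hA, lt_of_le_of_ne hle fun e => ?_, hn, fun τ => ?_⟩
  · obtain ⟨a, ha⟩ := hφ
    have : (a : T) ∈ φ.ker.map A.subtype := e.symm ▸ a.2
    obtain ⟨b, hb, hba⟩ := this
    exact ha (by rw [← Subtype.ext hba]; exact hb)
  · rw [sup_eq_iff_mul hle hn inf_le_left]
    intro a ha
    obtain ⟨x, hx, hxa⟩ := h τ.symm ⟨a, ha⟩
    refine ⟨a * (x : T)⁻¹, ⟨⟨a, ha⟩ * x⁻¹, ?_, rfl⟩, x, ⟨x.2, mem_map_aut.2 hx⟩, by simp⟩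
    simp [MonoidHom.mem_ker, hxa]

/-- Action form of the index-two criterion: `T` acts transitively on `X`, `A` is the stabiliser of
`x₀ `, `X` is not a point, and every two-point stabiliser `A_y` leaves `B`. -/
theorem isPair_of_action {X : Type*} [MulAction T X] (x₀ : X) {B : Subgroup T}
    (hA : MulAction.stabilizer T x₀ ≠ ⊤) (hBA : B ≤ MulAction.stabilizer T x₀)
    (h2 : ∀ x y : T, x • x₀ = x₀ → y • x₀ = x₀ → x ∉ B → y ∉ B → x * y ∈ B)
    (h : ∀ t : T, ∃ g : T, g • x₀ = x₀ ∧ g • t • x₀ = t • x₀ ∧ g ∉ B) :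
    IsPair (MulAction.stabilizer T x₀) B := by
  refine isPair_of_index_two hA hBA (fun x hx y hy => h2 x y hx hy) fun t => ?_
  obtain ⟨g, h1, h2, h3⟩ := h t
  refine ⟨g, h1, ?_, h3⟩
  rw [MulAction.mem_stabilizer_iff, mul_smul, mul_smul, h2, inv_smul_smul]

end Cfsg.Agent.SP
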